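import Mathlib.CategoryTheory.Preadditive.AdditiveFunctor
import Mathlib.CategoryTheory.Limits.Preserves.Shapes.Kernels
import Mathlib.CategoryTheory.Abelian.Basic
import Mathlib.Tactic.Abel

/-!
# Cokernels of a column with three entries
-/

set_option autoImplicit false

universe v v' w w'

open CategoryTheory CategoryTheory.Limits

noncomputable section

namespace Groth.L04.Jump

variable {C : Type w} [Category.{v} C] [Preadditive C] [HasBinaryBiproducts C] [HasCokernels C]
  {D : Type w'} [Category.{v'} D] [Preadditive D]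
  {L M N P : C} (c : L ⟶ L) (f : L ⟶ M) (g : L ⟶ N)

/-- The column. -/
abbrev col : L ⟶ L ⊞ (M ⊞ N) := biprod.lift c (biprod.lift f g)

/-- The two entries beside the last. -/
def uM : L ⊞ M ⟶ cokernel (col c f g) :=
  biprod.desc (biprod.inl ≫ cokernel.π _) (biprod.inl ≫ biprod.inr ≫ cokernel.π _)

/-- The two entries beside the middle. -/
def uN : L ⊞ N ⟶ cokernel (col c f g) :=
  biprod.desc (biprod.inl ≫ cokernel.π _) (biprod.inr ≫ biprod.inr ≫ cokernel.π _)

/-- The last two entries. -/
def uL : M ⊞ N ⟶ cokernel (col c f g) := biprod.inr ≫ cokernel.π _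

theorem col_π : c ≫ biprod.inl ≫ cokernel.π (col c f g) + f ≫ biprod.inl ≫ biprod.inr ≫ cokernel.π (col c f g) +
    g ≫ biprod.inr ≫ biprod.inr ≫ cokernel.π (col c f g) = 0 := by
  have e : col c f g = c ≫ biprod.inl + (f ≫ biprod.inl + g ≫ biprod.inr) ≫ biprod.inr := by
    simp only [col, biprod.lift_eq]
  calc _ = (c ≫ biprod.inl + (f ≫ biprod.inl + g ≫ biprod.inr) ≫ biprod.inr) ≫ cokernel.π (col c f g) := by
        simp only [Preadditive.add_comp, Category.assoc, add_assoc]
    _ = col c f g ≫ cokernel.π (col c f g) := congrArg (· ≫ cokernel.π (col c f g)) e.symm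
    _ = 0 := cokernel.condition _

variable (R : C ⥤ D) [R.Additive] [PreservesColimit (parallelPair (col c f g) 0) R]

theorem exists_desc {T : D} (v : R.obj (L ⊞ (M ⊞ N)) ⟶ T) (h : R.map (col c f g) ≫ v = 0) :
    ∃ w, R.map (cokernel.π (col c f g)) ≫ w = v :=
  ⟨(isColimitCoforkMapOfIsColimit' R (cokernel.condition _) (cokernelIsCokernel _)).desc (CokernelCofork.ofπ v h),
    Cofork.IsColimit.π_desc (isColimitCoforkMapOfIsColimit' R (cokernel.condition _) (cokernelIsCokernel _))⟩

theorem epi_map_π : Epi (R.map (cokernel.π (col c f g))) :=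
  ⟨fun {T} a b h => Cofork.IsColimit.hom_ext
    (isColimitCoforkMapOfIsColimit' R (cokernel.condition _) (cokernelIsCokernel _)) h⟩

theorem isIso_map_uM [IsIso (R.map g)] : IsIso (R.map (uM c f g)) := by
  let v : R.obj (L ⊞ (M ⊞ N)) ⟶ R.obj (L ⊞ M) :=
    R.map (biprod.desc biprod.inl (biprod.desc biprod.inr 0)) -
      R.map (biprod.snd ≫ biprod.snd) ≫ inv (R.map g) ≫ R.map (biprod.lift c f)
  have hv : R.map (col c f g) ≫ v = 0 := by
    simp only [v, Preadditive.comp_sub]
    rw [← R.map_comp, ← Category.assoc (R.map (col c f g)), ← R.map_comp]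
    simp only [col, biprod.lift_desc, biprod.lift_snd_assoc, biprod.lift_snd, IsIso.hom_inv_id_assoc,
      comp_zero, add_zero]
    rw [← biprod.lift_eq, sub_self]
  obtain ⟨w, hw⟩ := exists_desc c f g R v hv
  have e1 : (biprod.inl : L ⟶ L ⊞ (M ⊞ N)) ≫ biprod.snd ≫ biprod.snd = 0 := by simp
  have e2 : (biprod.inl ≫ biprod.inr : M ⟶ L ⊞ (M ⊞ N)) ≫ biprod.snd ≫ biprod.snd = 0 := by simp
  refine ⟨w, ?_, ?_⟩
  · have hl : R.map (biprod.inl ≫ cokernel.π (col c f g)) ≫ w = R.map biprod.inl := by
      rw [R.map_comp, Category.assoc, hw, Preadditive.comp_sub, ← R.map_comp, ← Category.assoc (R.map biprod.inl),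
        ← R.map_comp, e1, R.map_zero, zero_comp, sub_zero, biprod.inl_desc]
    have hr : R.map (biprod.inl ≫ biprod.inr ≫ cokernel.π (col c f g)) ≫ w = R.map biprod.inr := by
      rw [← Category.assoc biprod.inl, R.map_comp, Category.assoc, hw, Preadditive.comp_sub, ← R.map_comp,
        ← Category.assoc (R.map (biprod.inl ≫ biprod.inr)), ← R.map_comp, e2, R.map_zero, zero_comp, sub_zero]
      simp
    rw [← R.map_id, ← biprod.total, R.map_add, uM, biprod.desc_eq, R.map_add, Preadditive.add_comp,
      R.map_comp, R.map_comp biprod.snd, Category.assoc, Category.assoc, hl, hr, R.map_comp, R.map_comp]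
  · haveI := epi_map_π c f g R
    rw [← cancel_epi (R.map (cokernel.π (col c f g))), ← Category.assoc, hw, Category.comp_id,
      Preadditive.sub_comp]
    simp only [Category.assoc, ← R.map_comp]
    have e3 : biprod.lift c f ≫ uM c f g = -(g ≫ biprod.inr ≫ biprod.inr ≫ cokernel.π (col c f g)) := by
      rw [uM, biprod.lift_desc, eq_neg_iff_add_eq_zero]
      exact col_π c f g
    rw [e3, R.map_neg, R.map_comp g, Preadditive.comp_neg, IsIso.inv_hom_id_assoc, Preadditive.comp_neg,
      sub_neg_eq_add, ← R.map_comp, ← R.map_add]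
    congr 1
    refine biprod.hom_ext' _ _ ?_ (biprod.hom_ext' _ _ ?_ ?_) <;> simp [uM]

theorem isIso_map_uN [IsIso (R.map f)] : IsIso (R.map (uN c f g)) := by
  let v : R.obj (L ⊞ (M ⊞ N)) ⟶ R.obj (L ⊞ N) :=
    R.map (biprod.desc biprod.inl (biprod.desc 0 biprod.inr)) -
      R.map (biprod.snd ≫ biprod.fst) ≫ inv (R.map f) ≫ R.map (biprod.lift c g)
  have hv : R.map (col c f g) ≫ v = 0 := by
    simp only [v, Preadditive.comp_sub]
    rw [← R.map_comp, ← Category.assoc (R.map (col c f g)), ← R.map_comp]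
    simp only [col, biprod.lift_desc, biprod.lift_snd_assoc, biprod.lift_fst, IsIso.hom_inv_id_assoc,
      comp_zero, zero_add]
    rw [← biprod.lift_eq, sub_self]
  obtain ⟨w, hw⟩ := exists_desc c f g R v hv
  have e1 : (biprod.inl : L ⟶ L ⊞ (M ⊞ N)) ≫ biprod.snd ≫ biprod.fst = 0 := by simp
  have e2 : (biprod.inr ≫ biprod.inr : N ⟶ L ⊞ (M ⊞ N)) ≫ biprod.snd ≫ biprod.fst = 0 := by simp
  refine ⟨w, ?_, ?_⟩
  · have hl : R.map (biprod.inl ≫ cokernel.π (col c f g)) ≫ w = R.map biprod.inl := by
      rw [R.map_comp, Category.assoc, hw, Preadditive.comp_sub, ← R.map_comp, ← Category.assoc (R.map biprod.inl),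
        ← R.map_comp, e1, R.map_zero, zero_comp, sub_zero, biprod.inl_desc]
    have hr : R.map (biprod.inr ≫ biprod.inr ≫ cokernel.π (col c f g)) ≫ w = R.map biprod.inr := by
      rw [← Category.assoc biprod.inr, R.map_comp, Category.assoc, hw, Preadditive.comp_sub, ← R.map_comp,
        ← Category.assoc (R.map (biprod.inr ≫ biprod.inr)), ← R.map_comp, e2, R.map_zero, zero_comp, sub_zero]
      simp
    rw [← R.map_id, ← biprod.total, R.map_add, uN, biprod.desc_eq, R.map_add, Preadditive.add_comp,
      R.map_comp, R.map_comp biprod.snd, Category.assoc, Category.assoc, hl, hr, R.map_comp, R.map_comp]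
  · haveI := epi_map_π c f g R
    rw [← cancel_epi (R.map (cokernel.π (col c f g))), ← Category.assoc, hw, Category.comp_id,
      Preadditive.sub_comp]
    simp only [Category.assoc, ← R.map_comp]
    have e3 : biprod.lift c g ≫ uN c f g = -(f ≫ biprod.inl ≫ biprod.inr ≫ cokernel.π (col c f g)) := by
      rw [uN, biprod.lift_desc, eq_neg_iff_add_eq_zero, ← col_π c f g]
      abel
    rw [e3, R.map_neg, R.map_comp f, Preadditive.comp_neg, IsIso.inv_hom_id_assoc, Preadditive.comp_neg,
      sub_neg_eq_add, ← R.map_comp, ← R.map_add]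
    congr 1
    refine biprod.hom_ext' _ _ ?_ (biprod.hom_ext' _ _ ?_ ?_) <;> simp [uN]

theorem isIso_map_uL [IsIso (R.map c)] : IsIso (R.map (uL c f g)) := by
  let v : R.obj (L ⊞ (M ⊞ N)) ⟶ R.obj (M ⊞ N) :=
    R.map biprod.snd - R.map biprod.fst ≫ inv (R.map c) ≫ R.map (biprod.lift f g)
  have hv : R.map (col c f g) ≫ v = 0 := by
    simp only [v, Preadditive.comp_sub]
    rw [← R.map_comp, ← Category.assoc (R.map (col c f g)), ← R.map_comp]
    simp [col]
  obtain ⟨w, hw⟩ := exists_desc c f g R v hv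
  refine ⟨w, ?_, ?_⟩
  · rw [uL, R.map_comp, Category.assoc, hw, Preadditive.comp_sub, ← R.map_comp,
      ← Category.assoc (R.map biprod.inr), ← R.map_comp]
    simp
  · haveI := epi_map_π c f g R
    rw [← cancel_epi (R.map (cokernel.π (col c f g))), ← Category.assoc, hw, Category.comp_id,
      Preadditive.sub_comp]
    simp only [Category.assoc, ← R.map_comp]
    have e3 : biprod.lift f g ≫ uL c f g = -(c ≫ biprod.inl ≫ cokernel.π (col c f g)) := by
      rw [uL, biprod.lift_eq]
      simp only [Preadditive.add_comp, Category.assoc]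
      rw [eq_neg_iff_add_eq_zero, ← col_π c f g]
      abel
    rw [e3, R.map_neg, R.map_comp c, Preadditive.comp_neg, IsIso.inv_hom_id_assoc, Preadditive.comp_neg,
      sub_neg_eq_add, ← R.map_comp, ← R.map_add]
    congr 1
    refine biprod.hom_ext' _ _ ?_ ?_ <;> simp [uL]

omit [HasCokernels C] in
/-- If the first entry dies, the cokernel is a sum. -/
theorem nonempty_iso_of_zero [HasCokernels C] [HasBinaryBiproducts D] (p : M ⟶ P) (q : N ⟶ P)
    (wpq : biprod.lift f g ≫ biprod.desc p q = 0) (hcok : IsColimit (CokernelCofork.ofπ (biprod.desc p q) wpq))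
    [PreservesColimit (parallelPair (biprod.lift f g) 0) R] (hc : R.map c = 0) :
    Nonempty (R.obj (cokernel (col c f g)) ≅ R.obj P ⊞ R.obj L) := by
  let hR := isColimitCoforkMapOfIsColimit' R wpq hcok
  let v : R.obj (L ⊞ (M ⊞ N)) ⟶ R.obj P ⊞ R.obj L :=
    R.map biprod.fst ≫ biprod.inr + R.map (biprod.snd ≫ biprod.desc p q) ≫ biprod.inl
  have hv : R.map (col c f g) ≫ v = 0 := by
    simp only [v, Preadditive.comp_add, ← Category.assoc, ← R.map_comp]
    simp only [col, biprod.lift_fst, biprod.lift_snd]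
    rw [hc, wpq, R.map_zero, zero_comp, zero_comp, add_zero]
  obtain ⟨w, hw⟩ := exists_desc c f g R v hv
  have hs : R.map (biprod.lift f g) ≫ R.map (biprod.inr ≫ cokernel.π (col c f g)) = 0 := by
    have h := col_π c f g
    rw [add_assoc] at h
    rw [← R.map_comp, biprod.lift_eq]
    simp only [Preadditive.add_comp, Category.assoc]
    rw [eq_neg_of_add_eq_zero_right h, R.map_neg, R.map_comp, hc, zero_comp, neg_zero]
  let s : R.obj P ⟶ R.obj (cokernel (col c f g)) := hR.desc (CokernelCofork.ofπ _ hs)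
  have hs' : R.map (biprod.desc p q) ≫ s = R.map (biprod.inr ≫ cokernel.π (col c f g)) :=
    Cofork.IsColimit.π_desc hR
  haveI := epi_map_π c f g R
  haveI : Epi (R.map (biprod.desc p q)) := ⟨fun {T} a b h => Cofork.IsColimit.hom_ext hR h⟩
  refine ⟨⟨w, biprod.desc s (R.map (biprod.inl ≫ cokernel.π (col c f g))), ?_, ?_⟩⟩
  · rw [← cancel_epi (R.map (cokernel.π (col c f g))), ← Category.assoc, hw, Category.comp_id,
      Preadditive.add_comp, Category.assoc, Category.assoc, biprod.inl_desc, biprod.inr_desc, R.map_comp biprod.snd,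
      Category.assoc, hs', ← R.map_comp, ← R.map_comp, ← R.map_add]
    congr 1
    rw [← Category.assoc, ← Category.assoc, ← Preadditive.add_comp, biprod.total, Category.id_comp]
  · refine biprod.hom_ext' _ _ ?_ ?_
    · rw [biprod.inl_desc_assoc, Category.comp_id, ← cancel_epi (R.map (biprod.desc p q)), ← Category.assoc, hs',
        R.map_comp, Category.assoc, hw, Preadditive.comp_add, ← Category.assoc, ← Category.assoc, ← R.map_comp,
        ← R.map_comp]
      simp
    · rw [biprod.inr_desc_assoc, Category.comp_id, R.map_comp, Category.assoc, hw, Preadditive.comp_add,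
        ← Category.assoc, ← Category.assoc, ← R.map_comp, ← R.map_comp]
      simp

end Groth.L04.Jump
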