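import Groth.Agent.L04.Jump.Cat
import Groth.Agent.L24.Degen.Twist
import Groth.Agent.L17.BC.PullSec
import Groth.Agent.L08.Cube.PushTriv
import Groth.Agent.L13.PointBlow.Koszul
import Groth.Agent.L14.Quot.Funct
import Groth.Agent.L21.Extend.Gen
import Groth.Agent.L21.Mod.Stalks
import Groth.Agent.L16.ProjSpace.Charts
import Groth.Agent.L04.EagonNorthcott.Determinantal
import Groth.Prelude.Def_FlatMod2
import Groth.Prelude.Def_Twist2

/-!
# A rank two bundle on `A^1 × P^1` whose splitting type jumps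
-/

set_option autoImplicit false
set_option linter.unusedSectionVars false
set_option backward.isDefEq.respectTransparency false

universe u v v' w w'

open CategoryTheory CategoryTheory.Limits AlgebraicGeometry TopologicalSpace

noncomputable section

namespace Groth.L04.Jump

open Groth.L18.Frame (IsFrame pull)
open Groth.L21.Mod (stalkF)

section Gen

variable {C : Type w} [Category.{v} C] [Abelian C] {D : Type w'} [Category.{v'} D] [Abelian D]
  {L M N P : C} (f : L ⟶ M) (g : L ⟶ N) (p : M ⟶ P) (q : N ⟶ P) (R : C ⥤ D) [R.Additive]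

theorem wpq (h : f ≫ p = g ≫ q) : biprod.lift f g ≫ biprod.desc p (-q) = 0 := by
  rw [biprod.lift_desc, h, Preadditive.comp_neg, add_neg_cancel]

/-- The Koszul-type sequence is split if one pair of opposite maps is invertible. -/
theorem shortExact_map (h : f ≫ p = g ≫ q)
    (hi : (IsIso (R.map g) ∧ IsIso (R.map p)) ∨ (IsIso (R.map f) ∧ IsIso (R.map q))) :
    ((ShortComplex.mk _ _ (wpq f g p q h)).map R).ShortExact := by
  have hR : R.map f ≫ R.map p = R.map g ≫ R.map q := by rw [← R.map_comp, h, R.map_comp]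
  have hlift : R.map (biprod.lift f g) = R.map f ≫ R.map biprod.inl + R.map g ≫ R.map biprod.inr := by
    rw [← R.map_comp, ← R.map_comp, ← R.map_add, biprod.lift_eq]
  have hdesc : R.map (biprod.desc p (-q)) = R.map biprod.fst ≫ R.map p - R.map biprod.snd ≫ R.map q := by
    rw [← R.map_comp, ← R.map_comp, ← R.map_sub, biprod.desc_eq, Preadditive.comp_neg, sub_eq_add_neg]
  have htot : R.map (biprod.fst : M ⊞ N ⟶ M) ≫ R.map biprod.inl + R.map biprod.snd ≫ R.map biprod.inr =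
      𝟙 (R.obj (M ⊞ N)) := by
    rw [← R.map_comp, ← R.map_comp, ← R.map_add, biprod.total, R.map_id]
  rcases hi with ⟨_, _⟩ | ⟨_, _⟩
  · refine ShortComplex.Splitting.shortExact
      { r := R.map biprod.snd ≫ inv (R.map g)
        s := inv (R.map p) ≫ R.map biprod.inl
        f_r := ?_
        s_g := ?_
        id := ?_ }
    · show R.map (biprod.lift f g) ≫ R.map biprod.snd ≫ inv (R.map g) = 𝟙 (R.obj L)
      rw [← Category.assoc, ← R.map_comp, biprod.lift_snd, IsIso.hom_inv_id]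
    · show (inv (R.map p) ≫ R.map biprod.inl) ≫ R.map (biprod.desc p (-q)) = 𝟙 (R.obj P)
      rw [Category.assoc, ← R.map_comp, biprod.inl_desc, IsIso.inv_hom_id]
    · show (R.map biprod.snd ≫ inv (R.map g)) ≫ R.map (biprod.lift f g) +
        R.map (biprod.desc p (-q)) ≫ inv (R.map p) ≫ R.map biprod.inl = 𝟙 (R.obj (M ⊞ N))
      have e : inv (R.map g) ≫ R.map f = R.map q ≫ inv (R.map p) := by
        rw [IsIso.inv_comp_eq, ← Category.assoc, ← hR, Category.assoc, IsIso.hom_inv_id, Category.comp_id]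
      rw [hlift, hdesc, ← htot]
      simp only [Category.assoc, Preadditive.comp_add, Preadditive.sub_comp, IsIso.inv_hom_id_assoc,
        IsIso.hom_inv_id_assoc, reassoc_of% e]
      abel
  · refine ShortComplex.Splitting.shortExact
      { r := R.map biprod.fst ≫ inv (R.map f)
        s := -(inv (R.map q) ≫ R.map biprod.inr)
        f_r := ?_
        s_g := ?_
        id := ?_ }
    · show R.map (biprod.lift f g) ≫ R.map biprod.fst ≫ inv (R.map f) = 𝟙 (R.obj L)
      rw [← Category.assoc, ← R.map_comp, biprod.lift_fst, IsIso.hom_inv_id]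
    · show (-(inv (R.map q) ≫ R.map biprod.inr)) ≫ R.map (biprod.desc p (-q)) = 𝟙 (R.obj P)
      rw [Preadditive.neg_comp, Category.assoc, ← R.map_comp, biprod.inr_desc, R.map_neg, Preadditive.comp_neg,
        neg_neg, IsIso.inv_hom_id]
    · show (R.map biprod.fst ≫ inv (R.map f)) ≫ R.map (biprod.lift f g) +
        R.map (biprod.desc p (-q)) ≫ (-(inv (R.map q) ≫ R.map biprod.inr)) = 𝟙 (R.obj (M ⊞ N))
      have e : inv (R.map f) ≫ R.map g = R.map p ≫ inv (R.map q) := by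
        rw [IsIso.inv_comp_eq, ← Category.assoc, hR, Category.assoc, IsIso.hom_inv_id, Category.comp_id]
      rw [hlift, hdesc, ← htot]
      simp only [Category.assoc, Preadditive.comp_add, Preadditive.comp_neg, Preadditive.sub_comp, neg_sub,
        IsIso.inv_hom_id_assoc, IsIso.hom_inv_id_assoc, reassoc_of% e]
      abel

/-- An additive functor respects sums of two objects. -/
def mapSum (A B : C) : R.obj (A ⊞ B) ≅ R.obj A ⊞ R.obj B where
  hom := biprod.lift (R.map biprod.fst) (R.map biprod.snd)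
  inv := biprod.desc (R.map biprod.inl) (R.map biprod.inr)
  hom_inv_id := by rw [biprod.lift_desc, ← R.map_comp, ← R.map_comp, ← R.map_add, biprod.total, R.map_id]
  inv_hom_id := by
    refine biprod.hom_ext' _ _ (biprod.hom_ext _ _ ?_ ?_) (biprod.hom_ext _ _ ?_ ?_) <;>
      simp [← R.map_comp]

end Gen

variable {X : Scheme.{u}}

/-- The sum of two copies of the unit is free of rank two. -/
theorem nonempty_freeMod_two :
    Nonempty (Coh.structureModule X ⊞ Coh.structureModule X ≅ FlatMod.freeMod X 2) := by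
  refine ⟨⟨biprod.desc (Sigma.ι (fun _ : Fin 2 => Coh.structureModule X) 0) (Sigma.ι (fun _ : Fin 2 => Coh.structureModule X) 1),
    Sigma.desc fun j => if j = 0 then biprod.inl else biprod.inr, ?_, ?_⟩⟩
  · apply biprod.hom_ext' <;> simp
  · refine Sigma.hom_ext _ _ fun j => ?_
    fin_cases j <;> simp

theorem isIso_smulMod (M : X.Modules) {r : Γ(X, ⊤)} (hr : IsUnit r) : IsIso (Groth.L14.Quot.smulMod M r) := by
  have key : ∀ a b : Γ(X, ⊤), a * b = 1 → Groth.L14.Quot.smulMod M a ≫ Groth.L14.Quot.smulMod M b = 𝟙 M :=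
    fun a b hab => Scheme.Modules.hom_ext _ _ fun U => by
      ext m
      show (Groth.L14.Quot.smulMod M b).app U ((Groth.L14.Quot.smulMod M a).app U m) = m
      rw [Groth.L14.Quot.smulMod_app, Groth.L14.Quot.smulMod_app, smul_smul, ← map_mul, mul_comm, hab, map_one,
        one_smul]
  obtain ⟨v, rfl⟩ := hr
  exact ⟨Groth.L14.Quot.smulMod M ↑v⁻¹, key _ _ v.mul_inv, key _ _ v.inv_mul⟩

theorem smulMod_zero (M : X.Modules) : Groth.L14.Quot.smulMod M (0 : Γ(X, ⊤)) = 0 :=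
  Scheme.Modules.hom_ext _ _ fun U => by
    ext m
    rw [Groth.L14.Quot.smulMod_app, map_zero, zero_smul]
    rfl

section Proj


/-- A coordinate. -/
def co (j : Fin 2) : (CohB1.polyGrading 1 (ULift.{u} ℤ)) 1 := ⟨MvPolynomial.X j, Groth.L16.ProjSpace.X_mem 1 (ULift.{u} ℤ) j⟩

/-- A chart. -/
def chart (j : Fin 2) : ((CohB1.ProjSpace 1 (ULift.{u} ℤ))).Opens := Proj.basicOpen (CohB1.polyGrading 1 (ULift.{u} ℤ)) (co.{u} j).1

theorem exists_mem_chart (x : (CohB1.ProjSpace 1 (ULift.{u} ℤ))) : ∃ j, x ∈ chart.{u} j :=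
  Groth.L16.ProjSpace.exists_mem_basicOpen_X 1 (ULift.{u} ℤ) x

/-- Multiplication by a power of a coordinate. -/
def mh (j : Fin 2) (n : ℤ) (d : ℕ) (n' : ℤ) (h : n' = n + d) :
    Twist.twistProjSpace 1 (ULift.{u} ℤ) n ⟶ Twist.twistProjSpace 1 (ULift.{u} ℤ) n' :=
  Groth.L24.Degen.mulHom n h (⟨_, Groth.L24.Degen.pow_mem (co.{u} j) d⟩ : (CohB1.polyGrading 1 (ULift.{u} ℤ)) d)

/-- The frame on a chart, as a section of `Twist.twist`. -/
def fr0 (j : Fin 2) (n : ℤ) : Γ(Twist.twist (CohB1.polyGrading 1 (ULift.{u} ℤ)) n, Proj.basicOpen (CohB1.polyGrading 1 (ULift.{u} ℤ)) (co.{u} j).1) :=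
  Groth.L24.Degen.powFrame (co.{u} j) n

/-- The frame on a chart. -/
def fr (j : Fin 2) (n : ℤ) : Γ(Twist.twistProjSpace 1 (ULift.{u} ℤ) n, chart.{u} j) :=
  fr0 j n

theorem isFrame_fr (j : Fin 2) (n : ℤ) : IsFrame (Twist.twistProjSpace 1 (ULift.{u} ℤ) n) (chart.{u} j) (fr j n) :=
  Groth.L24.Degen.isFrame_powFrame (co.{u} j) n

theorem mh_fr (j : Fin 2) (n : ℤ) (d : ℕ) (n' : ℤ) (h : n' = n + d) :
    (mh j n d n' h).app (chart.{u} j) (fr j n) = fr j n' :=
  Groth.L24.Degen.mulHom_powFrame (co.{u} j) n h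

theorem mh_comm (j j' : Fin 2) (n : ℤ) (d d' : ℕ) (a b n' : ℤ) (ha : a = n + d) (hb : b = n + d')
    (ha' : n' = a + d') (hb' : n' = b + d) :
    mh.{u} j n d a ha ≫ mh j' a d' n' ha' = mh j' n d' b hb ≫ mh j b d n' hb' :=
  Scheme.Modules.hom_ext _ _ fun U => by
    ext m
    exact Subtype.ext (funext fun x => Subtype.ext (mul_right_comm _ _ _))

variable (S : Scheme.{u})

/-- The projection to the line over the integers. -/
abbrev pr : CohB1.ProjSpaceOver 1 S ⟶ (CohB1.ProjSpace 1 (ULift.{u} ℤ)) :=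
  pullback.fst (CohB1.ProjSpace.toSpec 1 (ULift.{u} ℤ)) (specULiftZIsTerminal.from S)

/-- A chart over the base. -/
abbrev W (j : Fin 2) : (CohB1.ProjSpaceOver 1 S).Opens := pr S ⁻¹ᵁ chart.{u} j

theorem exists_mem_W (x : CohB1.ProjSpaceOver 1 S) : ∃ j, x ∈ W S j :=
  exists_mem_chart (pr S x)

/-- Multiplication by a power of a coordinate over the base. -/
def mS (j : Fin 2) (n : ℤ) (d : ℕ) (n' : ℤ) (h : n' = n + d) :
    Twist.twistOver 1 S n ⟶ Twist.twistOver 1 S n' :=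
  (Scheme.Modules.pullback (pr S)).map (mh j n d n' h)

/-- The frame over the base. -/
def frS (j : Fin 2) (n : ℤ) : Γ(Twist.twistOver 1 S n, W S j) :=
  pull (pr S) (Twist.twistProjSpace 1 (ULift.{u} ℤ) n) (chart.{u} j) (fr j n)

theorem isFrame_frS (j : Fin 2) (n : ℤ) : IsFrame (Twist.twistOver 1 S n) (W S j) (frS S j n) :=
  (isFrame_fr j n).pullback (pr S)

theorem mS_frS (j : Fin 2) (n : ℤ) (d : ℕ) (n' : ℤ) (h : n' = n + d) :
    (mS S j n d n' h).app (W S j) (frS S j n) = frS S j n' :=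
  (Groth.L17.BC.PullSec.map_pull (pr S) (mh j n d n' h) _ _).trans (congrArg _ (mh_fr j n d n' h))

theorem isIso_restrict_mS (j : Fin 2) (n : ℤ) (d : ℕ) (n' : ℤ) (h : n' = n + d) :
    IsIso ((Scheme.Modules.restrictFunctor (W S j).ι).map (mS S j n d n' h)) :=
  Groth.L08.Cube.isIso_restrict_of_frame _ (isFrame_frS S j n) (by rw [mS_frS]; exact isFrame_frS S j n')

theorem isIso_stalk_mS (j : Fin 2) (n : ℤ) (d : ℕ) (n' : ℤ) (h : n' = n + d) (x : CohB1.ProjSpaceOver 1 S)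
    (hx : x ∈ W S j) : IsIso ((stalkF _ x).map (mS S j n d n' h)) :=
  (ConcreteCategory.isIso_iff_bijective _).2 (Groth.L13.PointBlow.bijective_stalk_of_frame _ hx
    (isFrame_frS S j n) (isFrame_frS S j n') (mS_frS S j n d n' h))

theorem nonempty_restrict_iso (j : Fin 2) (n : ℤ) :
    Nonempty ((Scheme.Modules.restrictFunctor (W S j).ι).obj (Twist.twistOver 1 S n) ≅
      Coh.structureModule (W S j).toScheme) :=
  Groth.L21.Extend.exists_iso_of_isGen _ (isFrame_frS S j n)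

variable (i : ℕ)

theorem hL_M : (i : ℤ) = -((i : ℤ) + 1) + ((2 * i + 1 : ℕ) : ℤ) := by push_cast; omega
theorem hL_N : -(i : ℤ) = -((i : ℤ) + 1) + ((1 : ℕ) : ℤ) := by push_cast; omega
theorem hM_P : (i : ℤ) + 1 = (i : ℤ) + ((1 : ℕ) : ℤ) := by push_cast; omega
theorem hN_P : (i : ℤ) + 1 = -(i : ℤ) + ((2 * i + 1 : ℕ) : ℤ) := by push_cast; omega

/-- `O(-i-1) → O(i)`. -/
def mF := mS S 0 _ _ _ (hL_M i)
/-- `O(-i-1) → O(-i)`. -/
def mG := mS S 1 _ _ _ (hL_N i)
/-- `O(i) → O(i+1)`. -/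
def mP := mS S 1 _ _ _ (hM_P i)
/-- `O(-i) → O(i+1)`. -/
def mQ := mS S 0 _ _ _ (hN_P i)

theorem mF_mP : mF S i ≫ mP S i = mG S i ≫ mQ S i := by
  rw [mF, mP, mG, mQ, mS, mS, mS, mS, ← Functor.map_comp, ← Functor.map_comp]
  exact congrArg _ (mh_comm 0 1 _ _ _ _ _ _ _ _ _ _)

theorem shortExact_seq : (ShortComplex.mk _ _ (wpq _ _ _ _ (mF_mP S i))).ShortExact := by
  rw [Groth.L21.Mod.shortExact_iff_stalk]
  intro x
  refine shortExact_map _ _ _ _ (stalkF _ x) (mF_mP S i) ?_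
  obtain ⟨j, hj⟩ := exists_mem_W S x
  fin_cases j
  · exact Or.inr ⟨isIso_stalk_mS S 0 _ _ _ _ x hj, isIso_stalk_mS S 0 _ _ _ _ x hj⟩
  · exact Or.inl ⟨isIso_stalk_mS S 1 _ _ _ _ x hj, isIso_stalk_mS S 1 _ _ _ _ x hj⟩

variable (r : Γ(CohB1.ProjSpaceOver 1 S, ⊤))

/-- The scalar entry. -/
def mC : Twist.twistOver 1 S (-((i : ℤ) + 1)) ⟶ Twist.twistOver 1 S (-((i : ℤ) + 1)) :=
  Groth.L14.Quot.smulMod _ r

/-- The family. -/
abbrev fam : (CohB1.ProjSpaceOver 1 S).Modules :=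
  cokernel (col (mC S i r) (mF S i) (mG S i))

theorem isFinLocFreeOfRank_fam : FlatMod.IsFinLocFreeOfRank 2 (fam S i r) := by
  intro x
  obtain ⟨j, hj⟩ := exists_mem_W S x
  let R := Scheme.Modules.restrictFunctor (W S j).ι
  let adj := Scheme.Modules.restrictAdjunction (W S j).ι
  haveI : R.Additive := adj.left_adjoint_additive
  obtain ⟨e₀⟩ := nonempty_freeMod_two (X := (W S j).toScheme)
  obtain ⟨eL⟩ := nonempty_restrict_iso S j (-((i : ℤ) + 1))
  obtain ⟨eM⟩ := nonempty_restrict_iso S j (i : ℤ)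
  obtain ⟨eN⟩ := nonempty_restrict_iso S j (-(i : ℤ))
  refine ⟨W S j, hj, ?_⟩
  fin_cases j
  · haveI : IsIso (R.map (mF S i)) := isIso_restrict_mS S 0 _ _ _ _
    haveI := isIso_map_uN (mC S i r) (mF S i) (mG S i) R
    exact ⟨(asIso (R.map (uN (mC S i r) (mF S i) (mG S i)))).symm ≪≫ mapSum R _ _ ≪≫ biprod.mapIso eL eN ≪≫ e₀⟩
  · haveI : IsIso (R.map (mG S i)) := isIso_restrict_mS S 1 _ _ _ _
    haveI := isIso_map_uM (mC S i r) (mF S i) (mG S i) R
    exact ⟨(asIso (R.map (uM (mC S i r) (mF S i) (mG S i)))).symm ≪≫ mapSum R _ _ ≪≫ biprod.mapIso eL eM ≪≫ e₀⟩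

variable {T : Scheme.{u}} (ι : CohB1.ProjSpaceOver 1 T ⟶ CohB1.ProjSpaceOver 1 S) (hι : ι ≫ pr S = pr T)

/-- Twists are compatible with change of base. -/
def pullTwist (n : ℤ) : (Scheme.Modules.pullback ι).obj (Twist.twistOver 1 S n) ≅ Twist.twistOver 1 T n :=
  (Scheme.Modules.pullbackComp ι (pr S)).app _ ≪≫ (Scheme.Modules.pullbackCongr hι).app _

include hι in
theorem fibre_zero (hr : ι.appTop r = 0) : Nonempty ((Scheme.Modules.pullback ι).obj (fam S i r) ≅
    Twist.twistOver 1 T ((i : ℤ) + 1) ⊞ Twist.twistOver 1 T (-((i : ℤ) + 1))) := by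
  have hc : (Scheme.Modules.pullback ι).map (mC S i r) = 0 := by
    rw [mC, Groth.L14.Quot.pullback_smulMod, hr, smulMod_zero]
  obtain ⟨e⟩ := nonempty_iso_of_zero (mC S i r) (mF S i) (mG S i) (Scheme.Modules.pullback ι) (mP S i) (-(mQ S i))
    (wpq _ _ _ _ (mF_mP S i)) (shortExact_seq S i).gIsCokernel hc
  exact ⟨e ≪≫ biprod.mapIso (pullTwist S ι hι _) (pullTwist S ι hι _)⟩

include hι in
theorem fibre_unit (hr : IsUnit (ι.appTop r)) : Nonempty ((Scheme.Modules.pullback ι).obj (fam S i r) ≅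
    Twist.twistOver 1 T (i : ℤ) ⊞ Twist.twistOver 1 T (-(i : ℤ))) := by
  haveI : IsIso ((Scheme.Modules.pullback ι).map (mC S i r)) := by
    rw [mC, Groth.L14.Quot.pullback_smulMod]
    exact isIso_smulMod _ hr
  haveI := isIso_map_uL (mC S i r) (mF S i) (mG S i) (Scheme.Modules.pullback ι)
  exact ⟨(asIso ((Scheme.Modules.pullback ι).map (uL (mC S i r) (mF S i) (mG S i)))).symm ≪≫
    mapSum _ _ _ ≪≫ biprod.mapIso (pullTwist S ι hι _) (pullTwist S ι hι _)⟩

end Proj

end Groth.L04.Jump
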